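import Mathlib

/-! # The sum `∑ ζ^{ij} / (2 - ζ^i - ζ^{-i})` -/

set_option autoImplicit false

namespace Groth.Agent.DedSum

lemma formula {K : Type*} [Field K] (h6 : (6 : K) ≠ 0) (N j : ℕ) (hj : j < N) (ζ : K) (hζ : IsPrimitiveRoot ζ N) :
    ∑ i ∈ Finset.Ioo 0 N, ζ ^ (i * j) / (2 - ζ ^ i - (ζ ^ i)⁻¹) =
      (j : K) * ((j : K) - (N : K)) / 2 + ((N : K) ^ 2 - 1) / 12 := by
  have hN : 0 < N := by omega
  haveI : NeZero N := ⟨by omega⟩
  have hNK : (N : K) ≠ 0 := hζ.neZero'.ne
  have h2 : (2 : K) ≠ 0 := fun h => h6 (by linear_combination 3 * h)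
  have h3 : (3 : K) ≠ 0 := fun h => h6 (by linear_combination 2 * h)
  have hgeom : ∀ r : ℕ, ¬ N ∣ r → ∑ i ∈ Finset.range N, ζ ^ (i * r) = 0 := fun r hr => by
    have hx : ζ ^ r ≠ 1 := fun h => hr (hζ.pow_eq_one_iff_dvd r |>.1 h)
    have := geom_sum_mul (ζ ^ r) N
    rw [← pow_mul, mul_comm r N, pow_mul, hζ.pow_eq_one, one_pow, sub_self, mul_eq_zero] at this
    rcases this with h | h
    · rw [← h]; exact Finset.sum_congr rfl fun i _ => by rw [← pow_mul, mul_comm]
    · exact absurd (sub_eq_zero.1 h) hx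
  have hsplit : ∀ g : ℕ → K, ∑ i ∈ Finset.range N, g i = g 0 + ∑ i ∈ Finset.Ioo 0 N, g i := fun g => by
    rw [show Finset.range N = insert 0 (Finset.Ioo 0 N) by
      ext x; simp only [Finset.mem_range, Finset.mem_insert, Finset.mem_Ioo]; omega, Finset.sum_insert (by simp)]
  have hd : ∀ i ∈ Finset.Ioo 0 N, 2 - ζ ^ i - (ζ ^ i)⁻¹ ≠ 0 := fun i hi h => by
    rw [Finset.mem_Ioo] at hi
    have hx0 : ζ ^ i ≠ 0 := pow_ne_zero _ (hζ.ne_zero (by omega))
    have hsq : (ζ ^ i - 1) ^ 2 = 0 := by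
      have := mul_inv_cancel₀ hx0
      linear_combination -(ζ ^ i) * h - this
    exact hζ.pow_ne_one_of_pos_of_lt (by omega) hi.2 (sub_eq_zero.1 (pow_eq_zero_iff two_ne_zero |>.1 hsq))
  let S : ℕ → K := fun j => ∑ i ∈ Finset.Ioo 0 N, ζ ^ (i * j) / (2 - ζ ^ i - (ζ ^ i)⁻¹)
  have hdiff : ∀ j, j + 1 < N → S (j + 2) - 2 * S (j + 1) + S j = 1 := fun j hj => by
    have h := hgeom (j + 1) (fun h => absurd (Nat.le_of_dvd (by omega) h) (by omega))
    rw [hsplit, zero_mul, pow_zero] at h
    simp only [S, Finset.mul_sum, ← Finset.sum_sub_distrib, ← Finset.sum_add_distrib]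
    calc _ = ∑ i ∈ Finset.Ioo 0 N, -ζ ^ (i * (j + 1)) := Finset.sum_congr rfl fun i hi => by
          have hd' := hd i hi
          have hz : ζ ^ i ≠ 0 := pow_ne_zero _ (hζ.ne_zero (by omega))
          have hinv := mul_inv_cancel₀ hz
          rw [mul_div_assoc', div_sub_div_same, ← add_div, div_eq_iff hd']
          simp only [mul_add, mul_one, pow_add, show i * 2 = i + i from mul_two i, pow_mul]
          linear_combination (-(ζ ^ i) ^ j) * hinv
      _ = 1 := by rw [Finset.sum_neg_distrib]; linear_combination -h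
  have hlin : ∀ j, j ≤ N → (2 * (S j - S 0) = 2 * (j : K) * (S 1 - S 0) + (j : K) * ((j : K) - 1)) := by
    intro j
    induction j using Nat.strong_induction_on with
    | _ j ih =>
      rcases j with _ | _ | j
      · intro _; simp
      · intro _; simp
      · intro hjN
        have a := ih j (by omega) (by omega)
        have b := ih (j + 1) (by omega) (by omega)
        have c := hdiff j (by omega)
        push_cast at *
        linear_combination 2 * c + 2 * b - a
  have hper : S N = S 0 := Finset.sum_congr rfl fun i _ => by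
    rw [mul_comm, pow_mul, hζ.pow_eq_one, one_pow, mul_zero, pow_zero]
  have hD : 2 * (S 1 - S 0) = 1 - (N : K) := by
    have := hlin N le_rfl
    rw [hper, sub_self, mul_zero] at this
    refine mul_left_cancel₀ hNK ?_
    linear_combination -this
  have hS : ∀ j, j ≤ N → 2 * S j = 2 * S 0 + (j : K) * ((j : K) - N) := fun j hj => by
    linear_combination hlin j hj + (j : K) * hD
  have hsum : ∑ j ∈ Finset.range N, S j = 0 := by
    simp only [S]
    rw [Finset.sum_comm]
    refine Finset.sum_eq_zero fun i hi => ?_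
    rw [Finset.mem_Ioo] at hi
    rw [← Finset.sum_div, show ∑ j ∈ Finset.range N, ζ ^ (i * j) = 0 by
      rw [← hgeom i (fun h => absurd (Nat.le_of_dvd (by omega) h) (by omega))]
      exact Finset.sum_congr rfl fun k _ => by rw [mul_comm], zero_div]
  have hpow : ∀ n : ℕ, 6 * ∑ j ∈ Finset.range n, (j : K) * ((j : K) - N) =
      ((n : K) - 1) * n * (2 * n - 1) - 3 * N * n * ((n : K) - 1) := fun n => by
    induction n with
    | zero => simp
    | succ n ih => rw [Finset.sum_range_succ, mul_add, ih]; push_cast; ring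
  have h0 : 12 * S 0 = (N : K) ^ 2 - 1 := by
    have h1 : ∑ j ∈ Finset.range N, 2 * S j = ∑ j ∈ Finset.range N, (2 * S 0 + (j : K) * ((j : K) - N)) :=
      Finset.sum_congr rfl fun j hj => hS j (Finset.mem_range.1 hj).le
    rw [← Finset.mul_sum, hsum, mul_zero, Finset.sum_add_distrib, Finset.sum_const, Finset.card_range, nsmul_eq_mul] at h1
    refine mul_left_cancel₀ hNK ?_
    linear_combination -6 * h1 - hpow N
  have h12 : (12 : K) ≠ 0 := by rw [show (12 : K) = 2 * 6 by norm_num]; exact mul_ne_zero h2 h6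
  refine mul_left_cancel₀ h12 ?_
  rw [mul_add, mul_div_cancel₀ _ h12, show (12 : K) * ((j : K) * ((j : K) - N) / 2) = 6 * ((j : K) * ((j : K) - N)) by
    rw [show (12 : K) = 6 * 2 by norm_num, mul_assoc, mul_div_cancel₀ _ h2]]
  show 12 * S j = _
  linear_combination 6 * hS j hj.le + h0

end Groth.Agent.DedSum
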